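import Cfsg.Agent.H209.Five.Push

/-!
# S3568, task P5A: `O₂(A)` and `O₂(B)` are elementary abelian
-/

set_option autoImplicit false
set_option linter.unusedSectionVars false

open Pointwise

namespace Cfsg.Agent.H209.Five

open Cfsg.Agent.H399
open scoped commutatorElement

variable {G : Type*} [Group G]

/-! ### generalities -/

/-- commutators with a normal closure -/
theorem ea_gen_comm {A Q Z T : Subgroup G} (hQ : A ≤ Nm Q) (hZ : A ≤ Nm Z) (hTA : T ≤ A)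
    (hT : ∀ q ∈ Q, ∀ t ∈ T, q * t * q⁻¹ * t⁻¹ ∈ Z) : ∀ q ∈ Q, ∀ l ∈ ncl A T, q * l * q⁻¹ * l⁻¹ ∈ Z := by
  let M : Subgroup G :=
    { carrier := {l | l ∈ A ∧ ∀ q ∈ Q, q * l * q⁻¹ * l⁻¹ ∈ Z}
      one_mem' := ⟨A.one_mem, fun q _ => by simp⟩
      mul_mem' := by
        rintro l m ⟨hl, hl'⟩ ⟨hm, hm'⟩
        refine ⟨A.mul_mem hl hm, fun q hq => ?_⟩
        have e : q * (l * m) * q⁻¹ * (l * m)⁻¹ = (q * l * q⁻¹ * l⁻¹) * (l * (q * m * q⁻¹ * m⁻¹) * l⁻¹) := by group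
        rw [e]
        exact Z.mul_mem (hl' q hq) (le_Nm.1 hZ l hl _ (hm' q hq))
      inv_mem' := by
        rintro l ⟨hl, hl'⟩
        refine ⟨A.inv_mem hl, fun q hq => ?_⟩
        have e : q * l⁻¹ * q⁻¹ * (l⁻¹)⁻¹ = l⁻¹ * (q * l * q⁻¹ * l⁻¹)⁻¹ * (l⁻¹)⁻¹ := by group
        rw [e]
        exact le_Nm.1 hZ l⁻¹ (A.inv_mem hl) _ (Z.inv_mem (hl' q hq)) }
  have hM : ncl A T ≤ M := by
    refine ncl_le (fun t ht => ⟨hTA ht, fun q hq => hT q hq t ht⟩) ?_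
    rw [le_Nm]
    rintro a ha m ⟨hm, hm'⟩
    refine ⟨A.mul_mem (A.mul_mem ha hm) (A.inv_mem ha), fun q hq => ?_⟩
    have e : q * (a * m * a⁻¹) * q⁻¹ * (a * m * a⁻¹)⁻¹ =
        a * ((a⁻¹ * q * (a⁻¹)⁻¹) * m * (a⁻¹ * q * (a⁻¹)⁻¹)⁻¹ * m⁻¹) * a⁻¹ := by group
    rw [e]
    exact le_Nm.1 hZ a ha _ (hm' _ (le_Nm.1 hQ a⁻¹ (A.inv_mem ha) q hq))
  exact fun q hq l hl => (hM hl).2 q hq

theorem ea_le_Nm_commutator {A X Y : Subgroup G} (hX : A ≤ Nm X) (hY : A ≤ Nm Y) : A ≤ Nm ⁅X, Y⁆ := by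
  rw [le_Nm'] at *
  intro a ha
  have h1 := Subgroup.map_commutator X Y (MulAut.conj a).toMonoidHom
  rw [← cj_eq_map, ← cj_eq_map, ← cj_eq_map, hX a ha, hY a ha] at h1
  exact h1

theorem ea_le_Nm_centralizer {A X : Subgroup G} (hX : A ≤ Nm X) : A ≤ Nm (Subgroup.centralizer (X : Set G)) := by
  rw [le_Nm] at *
  intro a ha c hc
  rw [Subgroup.mem_centralizer_iff] at *
  intro x hx
  have h1 := hX a⁻¹ (A.inv_mem ha) x hx
  have h2 := hc _ h1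
  rw [inv_inv] at h2
  have h3 : a * (a⁻¹ * x * a * c) * a⁻¹ = a * (c * (a⁻¹ * x * a)) * a⁻¹ := by rw [h2]
  calc x * (a * c * a⁻¹) = a * (a⁻¹ * x * a * c) * a⁻¹ := by group
    _ = a * (c * (a⁻¹ * x * a)) * a⁻¹ := h3
    _ = a * c * a⁻¹ * x := by group

theorem ea_le_Nm_closure {A : Subgroup G} {S : Set G} (hS : ∀ a ∈ A, ∀ s ∈ S, a * s * a⁻¹ ∈ S) :
    A ≤ Nm (Subgroup.closure S) := by
  rw [le_Nm]
  intro a ha x hx
  induction hx using Subgroup.closure_induction with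
  | mem x hx => exact Subgroup.subset_closure (hS a ha x hx)
  | one => simp
  | mul x y _ _ h1 h2 =>
    have e : a * (x * y) * a⁻¹ = (a * x * a⁻¹) * (a * y * a⁻¹) := by group
    rw [e]
    exact Subgroup.mul_mem _ h1 h2
  | inv x _ h1 =>
    have e : a * x⁻¹ * a⁻¹ = (a * x * a⁻¹)⁻¹ := by group
    rw [e]
    exact Subgroup.inv_mem _ h1

/-- elements `z ∈ Z(V)` modulo... products with central factors -/
theorem ea_comm_of_central {v x w y : G} (h1 : v * x = x * v) (h2 : v * w = w * v) (h3 : v * y = y * v)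
    (h4 : w * x = x * w) (h5 : w * y = y * w) :
    (v * x) * (w * y) * (v * x)⁻¹ * (w * y)⁻¹ = x * y * x⁻¹ * y⁻¹ := by
  have e1 : Commute v x := h1
  have e2 : Commute v w := h2
  have e3 : Commute v y := h3
  have e4 : Commute w x := h4
  have e5 : Commute w y := h5
  have c1 : Commute v (w * y) := e2.mul_right e3
  have c2 : Commute w (x * y) := e4.mul_right e5
  have c3 : Commute w x⁻¹ := e4.inv_right
  calc (v * x) * (w * y) * (v * x)⁻¹ * (w * y)⁻¹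
      = v * (x * (w * y) * x⁻¹) * v⁻¹ * (w * y)⁻¹ := by group
    _ = (x * (w * y) * x⁻¹) * (w * y)⁻¹ := by
        have c4 : Commute v (x * (w * y) * x⁻¹) := (e1.mul_right c1).mul_right e1.inv_right
        rw [c4.eq]
        group
    _ = x * w * (y * x⁻¹ * y⁻¹) * w⁻¹ := by group
    _ = x * (y * x⁻¹ * y⁻¹) := by
        have c5 : Commute w (y * x⁻¹ * y⁻¹) := (e5.mul_right c3).mul_right e5.inv_right
        rw [mul_assoc x w, c5.eq]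
        group
    _ = x * y * x⁻¹ * y⁻¹ := by group

section

variable [Finite G] {A B : Subgroup G} {g : G}

/-! ### one-sided facts -/

theorem Pre.ea_nmT (_h : Pre A B g) : A ⊓ B ≤ Nm (Op 2 (A ⊓ B)) := le_Nm_Op 2 _

theorem Pre.ea_TA (_h : Pre A B g) : Op 2 (A ⊓ B) ≤ A := (Op_le 2 _).trans inf_le_left

theorem Pre.ea_nmL (_h : Pre A B g) : A ≤ Nm (LL A B) := le_Nm_ncl _ _

theorem Pre.ea_T_le_LL (_h : Pre A B g) : Op 2 (A ⊓ B) ≤ LL A B := le_ncl _ _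

/-- `V₁ = [Q₁, L₁]` -/
theorem Pre.ea_nmV (h : Pre A B g) : A ≤ Nm ⁅Op 2 A, LL A B⁆ := ea_le_Nm_commutator (le_Nm_Op 2 A) h.ea_nmL

theorem Pre.ea_V_le (h : Pre A B g) : ⁅Op 2 A, LL A B⁆ ≤ Op 2 A := by
  rw [Subgroup.commutator_le]
  intro q hq l hl
  have h1 := le_Nm.1 (le_Nm_Op 2 A) l (h.Lle hl) q⁻¹ ((Op 2 A).inv_mem hq)
  have e : ⁅q, l⁆ = q * (l * q⁻¹ * l⁻¹) := by rw [commutatorElement_def]; group
  rw [e]
  exact (Op 2 A).mul_mem hq h1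

/-- A subgroup `Z` of `Q₁` normal in `A` containing `[Q₁, T]` contains `V₁`. -/
theorem Pre.ea_V_le_of (h : Pre A B g) {Z : Subgroup G} (hZ : A ≤ Nm Z)
    (hT : ∀ q ∈ Op 2 A, ∀ t ∈ Op 2 (A ⊓ B), q * t * q⁻¹ * t⁻¹ ∈ Z) : ⁅Op 2 A, LL A B⁆ ≤ Z := by
  rw [Subgroup.commutator_le]
  intro q hq l hl
  exact ea_gen_comm (le_Nm_Op 2 A) hZ h.ea_TA hT q hq l hl

theorem Pre.ea_A_ne_bot (h : Pre A B g) : A ≠ ⊥ := by
  intro h0
  have h5 := h.pr.idx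
  rw [h0] at h5
  simp at h5

theorem Pre.ea_Q_ne_bot (h : Pre A B g) : Op 2 A ≠ ⊥ := by
  intro h0
  apply h.ea_A_ne_bot
  rw [eq_bot_iff]
  intro x hx
  rw [← h0]
  apply h.cent x hx
  intro y hy
  rw [h0, Subgroup.mem_bot] at hy
  rw [hy]
  group

/-- commutators of `T` are in `Q₁` -/
theorem Push.ea_comm_mem (h : Push A B g) {x y : G} (hx : x ∈ Op 2 (A ⊓ B)) (hy : y ∈ Op 2 (A ⊓ B)) :
    x * y * x⁻¹ * y⁻¹ ∈ Op 2 A := by
  apply h.cent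
  · exact A.mul_mem (A.mul_mem (A.mul_mem (h.ea_TA hx) (h.ea_TA hy)) (A.inv_mem (h.ea_TA hx))) (A.inv_mem (h.ea_TA hy))
  · intro z hz
    exact (h.cls x hx y hy z (h.QT hz)).symm

/-- `V₁ ≤ Z(Q₁)` -/
theorem Push.ea_V_cent (h : Push A B g) : ∀ v ∈ ⁅Op 2 A, LL A B⁆, ∀ q ∈ Op 2 A, v * q = q * v := by
  have h1 : ⁅Op 2 A, LL A B⁆ ≤ Subgroup.centralizer (Op 2 A : Set G) := by
    apply h.ea_V_le_of (ea_le_Nm_centralizer (le_Nm_Op 2 A))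
    intro q hq t ht
    rw [Subgroup.mem_centralizer_iff]
    intro z hz
    exact (h.cls q (h.QT hq) t ht z (h.QT hz)).symm
  intro v hv q hq
  exact ((Subgroup.mem_centralizer_iff.1 (h1 hv)) q hq).symm

/-- `L₁` does not centralise `Q₁` -/
theorem Push.ea_V_ne_bot (h : Push A B g) : ⁅Op 2 A, LL A B⁆ ≠ ⊥ := by
  intro h0
  obtain ⟨x, hx, y, hy, hxy⟩ := h.nonab
  apply hxy
  have key : ∀ l ∈ LL A B, l ∈ Op 2 A := by
    intro l hl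
    apply h.cent l (h.Lle hl)
    intro q hq
    have h1 := Subgroup.commutator_mem_commutator hq hl
    rw [h0, Subgroup.mem_bot, commutatorElement_eq_one_iff_mul_comm] at h1
    exact h1
  exact (Op 2 A).mul_mem ((Op 2 A).mul_mem ((Op 2 A).mul_mem (key x hx) (key y hy)) ((Op 2 A).inv_mem (key x hx)))
    ((Op 2 A).inv_mem (key y hy))

/-- `[Q₁, L₁, L₁] ≠ 1` -/
theorem Push.ea_VL_ne_bot (h : Push A B g) : ⁅⁅Op 2 A, LL A B⁆, LL A B⁆ ≠ ⊥ := by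
  intro h0
  obtain ⟨x, hx, y, hy, hxy⟩ := h.nonab
  apply hxy
  have h1 : ⁅⁅LL A B, Op 2 A⁆, LL A B⁆ = ⊥ := by rw [Subgroup.commutator_comm (LL A B) (Op 2 A)]; exact h0
  have h2 : ⁅⁅LL A B, LL A B⁆, Op 2 A⁆ = ⊥ := Subgroup.commutator_commutator_eq_bot_of_rotate h1 h0
  apply h.cent
  · have hx' := h.Lle hx
    have hy' := h.Lle hy
    exact A.mul_mem (A.mul_mem (A.mul_mem hx' hy') (A.inv_mem hx')) (A.inv_mem hy')
  · intro q hq
    have h3 := Subgroup.commutator_mem_commutator (Subgroup.commutator_mem_commutator hx hy) hq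
    rw [h2, Subgroup.mem_bot, commutatorElement_eq_one_iff_mul_comm, commutatorElement_def] at h3
    exact h3.symm

end

section two

variable [Finite G] {A B : Subgroup G} {g : G}

theorem Pre.ea_QT' (h' : Pre B A g⁻¹) : Op 2 B ≤ Op 2 (A ⊓ B) := by
  have := h'.QT
  rwa [inf_comm] at this

/-- a subgroup `N` of `T`, normalised by `D`, not in `Q₁`: `N Q₁ = T` -/
theorem Pre.ea_cov' (h : Pre A B g) {N : Subgroup G} (hN : N ≤ Op 2 (A ⊓ B)) (hD : A ⊓ B ≤ Nm N) (h1 : ¬ N ≤ Op 2 A) :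
    N ⊔ Op 2 A = Op 2 (A ⊓ B) := by
  apply h.cov N (hN.trans (Op_le 2 _)) hD ((isPGroup_Op 2 (A ⊓ B)).to_le hN)
  intro h2
  apply h1
  rw [← h.TK]
  exact le_inf hN h2

theorem Push.ea_not_Q_le (h : Push A B g) (h' : Push B A g⁻¹) : ¬ Op 2 B ≤ Op 2 A := by
  intro h1
  have h2 := h.Tidx
  have h3 := h'.Tidx
  rw [inf_comm] at h3
  have h4 := Subgroup.relIndex_mul_relIndex _ _ _ h1 h.QT
  rw [h2, h3] at h4
  have h5 : (Op 2 B).relIndex (Op 2 A) = 1 := by omega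
  rw [Subgroup.relIndex_eq_one] at h5
  have h6 : Op 2 A = Op 2 B := le_antisymm h5 h1
  apply h.ea_Q_ne_bot
  apply h.pr.U
  · exact h.QT.trans (Op_le 2 _)
  · exact le_Nm_Op 2 A
  · rw [h6]
    exact le_Nm_Op 2 B

theorem Push.ea_sup_eq (h : Push A B g) (h' : Push B A g⁻¹) : Op 2 A ⊔ Op 2 B = Op 2 (A ⊓ B) := by
  rw [sup_comm]
  exact h.ea_cov' h'.ea_QT' (inf_le_right.trans (le_Nm_Op 2 B)) (h.ea_not_Q_le h')

theorem Push.ea_relIndex_inf (h : Push A B g) (h' : Push B A g⁻¹) : (Op 2 A ⊓ Op 2 B).relIndex (Op 2 A) = 4 := by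
  have h1 : Op 2 A ≤ Nm (Op 2 B) := h.QT.trans ((Op_le 2 _).trans (inf_le_right.trans (le_Nm_Op 2 B)))
  have h2 := relIndex_sup_of_left h1
  rw [h.ea_sup_eq h'] at h2
  have h3 := h'.Tidx
  rw [inf_comm] at h3
  rw [inf_comm, Subgroup.inf_relIndex_right, ← h2, h3]

/-- step 4b -/
theorem Push.ea_V_le_swap (h : Push A B g) (h' : Push B A g⁻¹) (h1 : ⁅Op 2 A, LL A B⁆ ≤ Op 2 B) :
    ⁅Op 2 B, LL B A⁆ ≤ Op 2 A := by
  by_contra h2
  have h3 : ⁅Op 2 B, LL B A⁆ ⊔ Op 2 A = Op 2 (A ⊓ B) :=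
    h.ea_cov' (h'.ea_V_le.trans h'.ea_QT') (inf_le_right.trans h'.ea_nmV) h2
  apply h.ea_VL_ne_bot
  have h4 : Op 2 (A ⊓ B) ≤ Subgroup.centralizer ((⁅Op 2 A, LL A B⁆ : Subgroup G) : Set G) := by
    rw [← h3, sup_le_iff]
    constructor
    · intro w hw
      rw [Subgroup.mem_centralizer_iff]
      intro v hv
      exact (h'.ea_V_cent w hw v (h1 hv)).symm
    · intro q hq
      rw [Subgroup.mem_centralizer_iff]
      intro v hv
      exact h.ea_V_cent v hv q hq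
  have h5 : LL A B ≤ Subgroup.centralizer ((⁅Op 2 A, LL A B⁆ : Subgroup G) : Set G) :=
    ncl_le h4 (ea_le_Nm_centralizer h.ea_nmV)
  rw [Subgroup.commutator_eq_bot_iff_le_centralizer]
  intro v hv
  rw [Subgroup.mem_centralizer_iff]
  intro l hl
  exact ((Subgroup.mem_centralizer_iff.1 (h5 hl)) v hv).symm

/-- step 4a, one side -/
theorem Push.ea_nm_inf (h : Push A B g) (h1 : ⁅Op 2 A, LL A B⁆ ≤ Op 2 B) : A ≤ Nm (Op 2 A ⊓ Op 2 B) := by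
  refine h.LD.trans (sup_le ?_ ?_)
  · rw [le_Nm]
    intro l hl x hx
    have h2 : ⁅l, x⁆ ∈ ⁅Op 2 A, LL A B⁆ := by
      rw [Subgroup.commutator_comm]
      exact Subgroup.commutator_mem_commutator hl hx.1
    have h3 : ⁅l, x⁆ ∈ Op 2 A ⊓ Op 2 B := ⟨h.ea_V_le h2, h1 h2⟩
    have e : l * x * l⁻¹ = ⁅l, x⁆ * x := by rw [commutatorElement_def]; group
    rw [e]
    exact Subgroup.mul_mem _ h3 hx
  · exact inf_le_Nm (inf_le_left.trans (le_Nm_Op 2 A)) (inf_le_right.trans (le_Nm_Op 2 B))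

theorem Push.ea_not_V_le (h : Push A B g) (h' : Push B A g⁻¹) : ¬ ⁅Op 2 A, LL A B⁆ ≤ Op 2 B := by
  intro h1
  have h2 := h.ea_V_le_swap h' h1
  have h3 := h.ea_nm_inf h1
  have h4 := h'.ea_nm_inf h2
  rw [inf_comm] at h4
  have h5 : Op 2 A ⊓ Op 2 B = ⊥ :=
    h.pr.U _ (inf_le_left.trans (h.QT.trans (Op_le 2 _))) h3 h4
  apply h.ea_V_ne_bot
  rw [eq_bot_iff, ← h5]
  exact le_inf h.ea_V_le h1

/-- step 5 -/
theorem Push.ea_dec (h : Push A B g) (h' : Push B A g⁻¹) {q : G} (hq : q ∈ Op 2 A) :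
    ∃ v ∈ ⁅Op 2 A, LL A B⁆, ∃ x ∈ Op 2 A ⊓ Op 2 B, v * x = q := by
  have h1 : ⁅Op 2 A, LL A B⁆ ⊔ Op 2 B = Op 2 (A ⊓ B) := by
    have h2 := h'.ea_cov' (N := ⁅Op 2 A, LL A B⁆) (by
      rw [inf_comm]
      exact h.ea_V_le.trans h.QT) (inf_le_right.trans h.ea_nmV) (h.ea_not_V_le h')
    rwa [inf_comm B A] at h2
  have h3 : ⁅Op 2 A, LL A B⁆ ≤ Nm (Op 2 B) :=
    (h.ea_V_le.trans h.QT).trans ((Op_le 2 _).trans (inf_le_right.trans (le_Nm_Op 2 B)))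
  have h4 : q ∈ ⁅Op 2 A, LL A B⁆ ⊔ Op 2 B := by
    rw [h1]
    exact h.QT hq
  rw [mul_mem_sup_iff h3] at h4
  obtain ⟨v, hv, x, hx, h5⟩ := h4
  refine ⟨v, hv, x, ⟨?_, hx⟩, h5⟩
  have e : x = v⁻¹ * q := by rw [← h5]; group
  rw [e]
  exact (Op 2 A).mul_mem ((Op 2 A).inv_mem (h.ea_V_le hv)) hq

/-- step 6, one side -/
theorem Push.ea_commutator_eq (h : Push A B g) (h' : Push B A g⁻¹) :
    ⁅Op 2 A, Op 2 A⁆ = ⁅Op 2 A ⊓ Op 2 B, Op 2 A ⊓ Op 2 B⁆ := by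
  refine le_antisymm ?_ (Subgroup.commutator_mono inf_le_left inf_le_left)
  rw [Subgroup.commutator_le]
  intro q hq r hr
  obtain ⟨v, hv, x, hx, rfl⟩ := h.ea_dec h' hq
  obtain ⟨w, hw, y, hy, rfl⟩ := h.ea_dec h' hr
  rw [commutatorElement_def, ea_comm_of_central (h.ea_V_cent v hv x hx.1) (h.ea_V_cent v hv w (h.ea_V_le hw)) (h.ea_V_cent v hv y hy.1)
    (h.ea_V_cent w hw x hx.1) (h.ea_V_cent w hw y hy.1)]
  exact Subgroup.commutator_mem_commutator hx hy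

theorem Push.ea_commutator_bot (h : Push A B g) (h' : Push B A g⁻¹) : ⁅Op 2 A, Op 2 A⁆ = ⊥ := by
  have h1 := h.ea_commutator_eq h'
  have h2 := h'.ea_commutator_eq (by rwa [inv_inv])
  rw [inf_comm (Op 2 B) (Op 2 A), ← h1] at h2
  apply h.pr.U
  · rw [h1, Subgroup.commutator_le]
    intro x hx y hy
    rw [commutatorElement_def]
    have h3 : ∀ z ∈ Op 2 A ⊓ Op 2 B, z ∈ A ⊓ B := fun z hz => ⟨Op_le 2 A hz.1, Op_le 2 B hz.2⟩
    exact (A ⊓ B).mul_mem ((A ⊓ B).mul_mem ((A ⊓ B).mul_mem (h3 x hx) (h3 y hy)) ((A ⊓ B).inv_mem (h3 x hx)))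
      ((A ⊓ B).inv_mem (h3 y hy))
  · exact ea_le_Nm_commutator (le_Nm_Op 2 A) (le_Nm_Op 2 A)
  · rw [← h2]
    exact ea_le_Nm_commutator (le_Nm_Op 2 B) (le_Nm_Op 2 B)

theorem Push.ea_abel (h : Push A B g) (h' : Push B A g⁻¹) : ∀ x ∈ Op 2 A, ∀ y ∈ Op 2 A, x * y = y * x := by
  intro x hx y hy
  have h1 := Subgroup.commutator_mem_commutator hx hy
  rw [h.ea_commutator_bot h', Subgroup.mem_bot, commutatorElement_eq_one_iff_mul_comm] at h1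
  exact h1

/-- step 7: `v² = 1` for `v ∈ V₁` -/
theorem Push.ea_V_sq (h : Push A B g) (h' : Push B A g⁻¹) : ∀ v ∈ ⁅Op 2 A, LL A B⁆, v * v = 1 := by
  have hab := h.ea_abel h'
  let E : Subgroup G :=
    { carrier := {q | q ∈ Op 2 A ∧ q * q = 1}
      one_mem' := ⟨Subgroup.one_mem _, one_mul 1⟩
      mul_mem' := by
        rintro x y ⟨hx, hx'⟩ ⟨hy, hy'⟩
        refine ⟨Subgroup.mul_mem _ hx hy, ?_⟩
        have e : x * y * (x * y) = x * (y * x) * y := by group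
        rw [e, hab y hy x hx]
        have e' : x * (x * y) * y = (x * x) * (y * y) := by group
        rw [e', hx', hy', one_mul]
      inv_mem' := by
        rintro x ⟨hx, hx'⟩
        refine ⟨Subgroup.inv_mem _ hx, ?_⟩
        rw [← mul_inv_rev, hx', inv_one] }
  have hE : A ≤ Nm E := by
    rw [le_Nm]
    rintro a ha x ⟨hx, hx'⟩
    refine ⟨le_Nm.1 (le_Nm_Op 2 A) a ha x hx, ?_⟩
    have e : a * x * a⁻¹ * (a * x * a⁻¹) = a * (x * x) * a⁻¹ := by group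
    rw [e, hx']
    group
  have h1 : ⁅Op 2 A, LL A B⁆ ≤ E := by
    apply h.ea_V_le_of hE
    intro q hq t ht
    refine ⟨h.ea_comm_mem (h.QT hq) ht, ?_⟩
    have h2 := h.cls q (h.QT hq) t ht t ht
    have h3 : q * (t * t) = (t * t) * q := hab q hq _ (h.Tsq t ht)
    calc q * t * q⁻¹ * t⁻¹ * (q * t * q⁻¹ * t⁻¹)
        = q * t * q⁻¹ * t⁻¹ * ((q * t * q⁻¹ * t⁻¹ * t) * t⁻¹) := by group
      _ = q * t * q⁻¹ * t⁻¹ * ((t * (q * t * q⁻¹ * t⁻¹)) * t⁻¹) := by rw [h2]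
      _ = (q * (t * t)) * q⁻¹ * (t * t)⁻¹ := by group
      _ = 1 := by
        rw [h3]
        group
  exact fun v hv => (h1 hv).2

/-- squares -/
theorem Push.ea_sq_eq (h : Push A B g) (h' : Push B A g⁻¹) {q : G} (hq : q ∈ Op 2 A) :
    ∃ x ∈ Op 2 A ⊓ Op 2 B, q * q = x * x := by
  obtain ⟨v, hv, x, hx, rfl⟩ := h.ea_dec h' hq
  refine ⟨x, hx, ?_⟩
  have h1 := h.ea_V_sq h' v hv
  have h2 := h.ea_V_cent v hv x hx.1
  calc v * x * (v * x) = v * x * (x * v) := by rw [← h2]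
    _ = v * (x * x) * v := by group
    _ = x * x := by
      have c : Commute v (x * x) := Commute.mul_right h2 h2
      rw [c.eq, mul_assoc, h1, mul_one]

theorem Push.ea_nm_sq (h : Push A B g) (h' : Push B A g⁻¹) :
    A ≤ Nm (Subgroup.closure {y : G | ∃ x ∈ Op 2 A ⊓ Op 2 B, y = x * x}) := by
  apply ea_le_Nm_closure
  rintro a ha _ ⟨x, hx, rfl⟩
  have h1 := le_Nm.1 (le_Nm_Op 2 A) a ha x hx.1
  obtain ⟨y, hy, h2⟩ := h.ea_sq_eq h' h1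
  refine ⟨y, hy, ?_⟩
  rw [← h2]
  group

theorem Push.ea_sq_one (h : Push A B g) (h' : Push B A g⁻¹) : ∀ x ∈ Op 2 A, x * x = 1 := by
  have h1 := h.ea_nm_sq h'
  have h2 := h'.ea_nm_sq (by rwa [inv_inv])
  rw [inf_comm (Op 2 B) (Op 2 A)] at h2
  have h3 : Subgroup.closure {y : G | ∃ x ∈ Op 2 A ⊓ Op 2 B, y = x * x} = ⊥ := by
    apply h.pr.U _ _ h1 h2
    rw [Subgroup.closure_le]
    rintro _ ⟨x, hx, rfl⟩
    have h3 : x ∈ A ⊓ B := ⟨Op_le 2 A hx.1, Op_le 2 B hx.2⟩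
    exact (A ⊓ B).mul_mem h3 h3
  intro q hq
  obtain ⟨x, hx, h4⟩ := h.ea_sq_eq h' hq
  rw [h4]
  have h5 : x * x ∈ Subgroup.closure {y : G | ∃ x ∈ Op 2 A ⊓ Op 2 B, y = x * x} :=
    Subgroup.subset_closure ⟨x, hx, rfl⟩
  rwa [h3, Subgroup.mem_bot] at h5

/-- TASK P5A -/
theorem push_ea (h : Push A B g) (h' : Push B A g⁻¹) :
    (∀ x ∈ Op 2 A, ∀ y ∈ Op 2 A, x * y = y * x) ∧ (∀ x ∈ Op 2 A, x * x = 1) ∧
    Op 2 A ⊔ Op 2 B = Op 2 (A ⊓ B) ∧ (Op 2 A ⊓ Op 2 B).relIndex (Op 2 A) = 4 :=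
  ⟨h.ea_abel h', h.ea_sq_one h', h.ea_sup_eq h', h.ea_relIndex_inf h'⟩

end two

end Cfsg.Agent.H209.Five
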